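import Mathlib

/-!
# Strongly regular graphs with no triangles: an integrality condition
-/

set_option autoImplicit false

namespace CfsgLib.Invol.TriOddCore

/-- The trace of an idempotent real matrix is a natural number. -/
theorem trace_idempotent {V : Type*} [Fintype V] [DecidableEq V] (P : Matrix V V ℝ) (hP : P * P = P) :
    ∃ m : ℕ, P.trace = m := by
  have h : IsIdempotentElem (Matrix.toLin' P) := by
    rw [IsIdempotentElem, Module.End.mul_eq_comp, ← Matrix.toLin'_mul, hP]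
  exact ⟨_, by rw [← Matrix.trace_toLin'_eq]; exact (LinearMap.IsIdempotentElem.isProj_range _ h).trace⟩

/-- If `Y² = D₀ (1 - J/n)`, `Y` kills `J` and `tr Y` is a nonzero integer, then `D₀` is a square. -/
theorem isSquare_of_matrix {V : Type*} [Fintype V] [DecidableEq V] (D₀ : ℕ) (hD : 0 < D₀)
    (Y Q : Matrix V V ℝ) (hQ : Q * Q = Q) (hQY : Q * Y = Y) (hYQ : Y * Q = Y) (hYY : Y * Y = (D₀ : ℝ) • Q)
    (T U : ℤ) (htrY : Y.trace = T) (htrQ : Q.trace = U) (hT : T ≠ 0) : ∃ r : ℕ, r * r = D₀ := by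
  set s := Real.sqrt D₀ with hs
  have hs0 : s ≠ 0 := by
    rw [hs]; exact (Real.sqrt_pos.2 (by exact_mod_cast hD)).ne'
  have hss : s * s = D₀ := Real.mul_self_sqrt (by positivity)
  set P : Matrix V V ℝ := (1 / 2 : ℝ) • (Q + s⁻¹ • Y) with hPdef
  have hP : P * P = P := by
    simp only [hPdef, Matrix.smul_mul, Matrix.mul_smul, Matrix.add_mul, Matrix.mul_add, hQ, hQY, hYQ, hYY,
      smul_add, smul_smul]
    match_scalars <;> field_simp <;> (try rw [← hss]) <;> ring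
  obtain ⟨m, hm⟩ := trace_idempotent P hP
  have htrP : P.trace = (1 / 2 : ℝ) * (U + s⁻¹ * T) := by
    simp only [hPdef, Matrix.trace_smul, Matrix.trace_add, htrY, htrQ, smul_eq_mul]
  set M : ℤ := 2 * (m : ℤ) - U with hM
  have hMr : (M : ℝ) * s = T := by
    have h1 : (1 / 2 : ℝ) * (U + s⁻¹ * T) = m := htrP ▸ hm
    rw [hM]
    push_cast
    field_simp at h1
    linarith [h1]
  have hsq : (M ^ 2 * D₀ : ℤ) = T ^ 2 := by
    have : ((M : ℝ) ^ 2 * (D₀ : ℝ)) = (T : ℝ) ^ 2 := by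
      rw [← hMr, ← hss]; ring
    exact_mod_cast this
  have hM0 : M ≠ 0 := by
    intro h0
    rw [h0, Int.cast_zero, zero_mul] at hMr
    exact hT (by exact_mod_cast hMr.symm)
  have hdvd : M ∣ T := by
    rw [← Int.pow_dvd_pow_iff two_ne_zero]
    exact ⟨D₀, hsq.symm⟩
  obtain ⟨c, hc⟩ := hdvd
  refine ⟨c.natAbs, ?_⟩
  have h2 : c * c = (D₀ : ℤ) := by
    rw [hc] at hsq
    have : M ^ 2 * (D₀ : ℤ) = M ^ 2 * (c * c) := by rw [hsq]; ring
    exact (mul_left_cancel₀ (pow_ne_zero 2 hM0) this).symm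
  have h3 : ((c.natAbs * c.natAbs : ℕ) : ℤ) = (D₀ : ℤ) := by
    push_cast
    rw [abs_mul_abs_self, h2]
  exact_mod_cast h3

/-- A symmetric relation on a finite set with constant valency `k`, no triangles, and `μ` common neighbours
for every non-adjacent pair: the discriminant is a square. -/
theorem isSquare_of_srg {V : Type*} [Fintype V] [DecidableEq V] (R : V → V → Prop) [DecidableRel R]
    (hsym : ∀ x y, R x y → R y x) (hirr : ∀ x, ¬ R x x) (k μ : ℕ) (hk : 3 ≤ k) (hμ1 : 1 ≤ μ) (hμk : μ ≤ k)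
    (hdeg : ∀ x, (Finset.univ.filter (R x)).card = k)
    (hadj : ∀ x y, R x y → (Finset.univ.filter fun z => R x z ∧ R z y).card = 0)
    (hnon : ∀ x y, x ≠ y → ¬ R x y → (Finset.univ.filter fun z => R x z ∧ R z y).card = μ)
    (hne : Nonempty V) : ∃ r : ℕ, r * r + 4 * μ = μ * μ + 4 * k := by
  classical
  set A : Matrix V V ℝ := Matrix.of fun x y => if R x y then 1 else 0 with hA
  set J : Matrix V V ℝ := Matrix.of fun _ _ => 1 with hJ
  set n : ℕ := Fintype.card V with hn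
  have hn0 : (n : ℝ) ≠ 0 := by
    rw [hn]; exact_mod_cast Fintype.card_ne_zero
  have hAJ : A * J = (k : ℝ) • J := by
    ext x y
    simp only [Matrix.mul_apply, hA, hJ, Matrix.of_apply, mul_one, Matrix.smul_apply, smul_eq_mul,
      Finset.sum_boole]
    rw [hdeg x]
  have hJA : J * A = (k : ℝ) • J := by
    ext x y
    simp only [Matrix.mul_apply, hA, hJ, Matrix.of_apply, one_mul, Matrix.smul_apply, smul_eq_mul, mul_one,
      Finset.sum_boole]
    rw [← hdeg y]
    exact congrArg _ (congrArg _ (Finset.filter_congr fun z _ => ⟨hsym z y, hsym y z⟩))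
  have hJJ : J * J = (n : ℝ) • J := by
    ext x y
    simp [Matrix.mul_apply, hJ, hn]
  have hA2 : A * A = (k : ℝ) • (1 : Matrix V V ℝ) + (μ : ℝ) • (J - 1 - A) := by
    ext x y
    have e : (A * A) x y = ((Finset.univ.filter fun z => R x z ∧ R z y).card : ℝ) := by
      simp only [Matrix.mul_apply, hA, Matrix.of_apply]
      rw [← Finset.sum_boole]
      refine Finset.sum_congr rfl fun z _ => ?_
      by_cases h1 : R x z <;> by_cases h2 : R z y <;> simp [h1, h2]
    rw [e]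
    by_cases hxy : x = y
    · subst hxy
      have : (Finset.univ.filter fun z => R x z ∧ R z x) = Finset.univ.filter (R x) :=
        Finset.filter_congr fun z _ => ⟨fun h => h.1, fun h => ⟨h, hsym _ _ h⟩⟩
      rw [this, hdeg]
      simp [hA, hJ, hirr]
    · by_cases hR : R x y
      · rw [hadj x y hR]
        simp [hA, hJ, hR, hxy]
      · rw [hnon x y hxy hR]
        simp [hA, hJ, hR, hxy]
  -- the counting identity
  have hid : (k : ℝ) * k = k + μ * ((n : ℝ) - 1 - k) := by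
    obtain ⟨x⟩ := hne
    have h1 : (A * A * J) x x = ((k : ℝ) • (1 : Matrix V V ℝ) * J + (μ : ℝ) • (J * J - J - A * J)) x x := by
      rw [hA2, Matrix.add_mul, Matrix.smul_mul (μ : ℝ), Matrix.sub_mul, Matrix.sub_mul, Matrix.one_mul]
    rw [Matrix.mul_assoc, hAJ, Matrix.mul_smul, hAJ, hJJ, Matrix.smul_mul, Matrix.one_mul] at h1
    simpa [hJ] using h1
  set Z : Matrix V V ℝ := (2 : ℝ) • A + (μ : ℝ) • 1 with hZ
  set c : ℝ := 2 * k + μ with hc
  set Q : Matrix V V ℝ := 1 - (n : ℝ)⁻¹ • J with hQd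
  set Y : Matrix V V ℝ := Z - (c * (n : ℝ)⁻¹) • J with hYd
  have hZJ : Z * J = c • J := by
    rw [hZ, Matrix.add_mul, Matrix.smul_mul, hAJ, Matrix.smul_mul, Matrix.one_mul, smul_smul, ← add_smul, hc]
  have hJZ : J * Z = c • J := by
    rw [hZ, Matrix.mul_add, Matrix.mul_smul, hJA, Matrix.mul_smul, Matrix.mul_one, smul_smul, ← add_smul, hc]
  have hQ : Q * Q = Q := by
    rw [hQd, Matrix.sub_mul, Matrix.mul_sub, Matrix.mul_sub, Matrix.one_mul, Matrix.one_mul, Matrix.mul_one,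
      Matrix.smul_mul, Matrix.mul_smul, hJJ, smul_smul, smul_smul]
    rw [mul_assoc, inv_mul_cancel₀ hn0, mul_one, sub_self, sub_zero]
  have hQY : Q * Y = Y := by
    rw [hQd, Matrix.sub_mul, Matrix.one_mul, Matrix.smul_mul, hYd, Matrix.mul_sub, hJZ, Matrix.mul_smul, hJJ,
      smul_smul, mul_assoc, inv_mul_cancel₀ hn0, mul_one, sub_self, smul_zero, sub_zero]
  have hYQ : Y * Q = Y := by
    rw [hQd, Matrix.mul_sub, Matrix.mul_one, Matrix.mul_smul, hYd, Matrix.sub_mul, hZJ, Matrix.smul_mul, hJJ,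
      smul_smul, mul_assoc, inv_mul_cancel₀ hn0, mul_one, sub_self, smul_zero, sub_zero]
  set D₀ : ℕ := μ * μ + 4 * (k - μ) with hD₀
  have hD₀r : (D₀ : ℝ) = (μ : ℝ) * μ + 4 * ((k : ℝ) - μ) := by
    rw [hD₀]; push_cast [hμk]; ring
  have hZZ : Z * Z = (D₀ : ℝ) • (1 : Matrix V V ℝ) + (4 * μ : ℝ) • J := by
    rw [hZ]
    simp only [Matrix.add_mul, Matrix.mul_add, Matrix.smul_mul, Matrix.mul_smul, Matrix.one_mul, Matrix.mul_one,
      smul_smul, hA2, smul_add, smul_sub]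
    rw [hD₀r]
    module
  have hYY : Y * Y = (D₀ : ℝ) • Q := by
    have hc2 : c * c = (D₀ : ℝ) + 4 * μ * n := by rw [hc, hD₀r]; linear_combination 4 * hid
    rw [hYd, Matrix.sub_mul, Matrix.mul_sub, Matrix.mul_sub, hZZ, Matrix.mul_smul, hZJ, Matrix.smul_mul, hJZ,
      Matrix.smul_mul, Matrix.mul_smul, hJJ, hQd, smul_smul, smul_smul, smul_smul, smul_sub, smul_smul]
    have e1 : c * (n : ℝ)⁻¹ * (c * (n : ℝ)⁻¹) * n = c * (n : ℝ)⁻¹ * c := by field_simp
    have e2 : (4 * μ : ℝ) - c * (n : ℝ)⁻¹ * c = -((D₀ : ℝ) * (n : ℝ)⁻¹) := by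
      rw [show c * (n : ℝ)⁻¹ * c = c * c * (n : ℝ)⁻¹ by ring, hc2]
      field_simp
      ring
    rw [e1]
    rw [sub_self, sub_zero, sub_eq_add_neg, ← neg_smul, add_assoc, ← add_smul, ← sub_eq_add_neg, e2,
      neg_smul, ← sub_eq_add_neg]
  have htrA : A.trace = 0 := by simp [Matrix.trace, hA, hirr]
  have htrJ : J.trace = n := by simp [Matrix.trace, hJ, hn]
  have htrY : Y.trace = (((n : ℤ) - 1) * μ - 2 * k : ℤ) := by
    rw [hYd, hZ]
    simp only [Matrix.trace_sub, Matrix.trace_add, Matrix.trace_smul, htrA, htrJ, Matrix.trace_one, smul_eq_mul,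
      ← hn]
    push_cast
    rw [mul_assoc, inv_mul_cancel₀ hn0, hc]
    ring
  have htrQ : Q.trace = ((n : ℤ) - 1 : ℤ) := by
    rw [hQd]
    simp only [Matrix.trace_sub, Matrix.trace_smul, htrJ, Matrix.trace_one, smul_eq_mul, ← hn]
    push_cast
    rw [inv_mul_cancel₀ hn0]
  have hT : ((n : ℤ) - 1) * μ - 2 * k ≠ 0 := by
    have h1 : ((k : ℤ)) * k = k + μ * ((n : ℤ) - 1 - k) := by exact_mod_cast hid
    intro h2
    have h3 : (k : ℤ) * ((k : ℤ) + μ - 3) = 0 := by linear_combination h1 + h2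
    rcases mul_eq_zero.1 h3 with h4 | h4
    · omega
    · omega
  obtain ⟨r, hr⟩ := isSquare_of_matrix D₀ (hD₀ ▸ Nat.add_pos_left (Nat.mul_pos (by omega) (by omega)) _) Y Q hQ hQY hYQ hYY _ _ htrY htrQ hT
  exact ⟨r, by rw [hr, hD₀]; omega⟩

end CfsgLib.Invol.TriOddCore
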