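import Cfsg.Agent.Lib.Invol.TriOddCore.Graph
import Cfsg.Agent.Lib.Invol.TriOddCore.Srg
import Cfsg.Agent.Lib.Invol.LocalSymThree.Main
import Cfsg.Agent.Lib.Spor.Tri.SmallSymmetric

/-!
# Fischer: if the odd core of the `D_x`-group is not central, the group is `Sym(5)`
-/

set_option autoImplicit false

namespace CfsgLib.Invol.TriOddCore

open CfsgLib.Spor.Tri

universe u

variable {G : Type u} [Group G] [Finite G] {D : Set G}
variable (h : Hyp D) (hR : CentralRadical G) (hperf : ⁅commutator G, commutator G⁆ = commutator G)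
include h hR hperf

/-- The members commuting with `a`, in the group they generate. -/
theorem hyp_local {a : G} (ha : a ∈ D) :
    Hyp (Subtype.val ⁻¹' perp D a : Set ↥(Subgroup.closure (perp D a))) where
  set := ⟨fun y hy => by rw [← Subgroup.orderOf_coe]; exact h.set.1 _ hy.1, fun y hy z hz => by
    rcases h.set.2 _ hy.1 _ hz.1 with e | e
    · exact Or.inl (Subtype.ext (by simpa using e))
    · exact Or.inr (Subtype.ext (by simpa using e))⟩
  conj := fun g y hy => by
    show (g : G) * (y : G) * (g : G)⁻¹ ∈ perp D a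
    have h2 : (g : G) * (y : G) * (g : G)⁻¹ ∈ perp D ((g : G) * a * (g : G)⁻¹) := by
      rw [h.perp_conj]; exact ⟨_, hy, rfl⟩
    rwa [conj_eq_of_commute (commute_of_mem_closure_perp g.2)] at h2
  transitive := fun y hy z hz => by
    obtain ⟨g, hg, e⟩ := exists_conj_perp h hR hperf ha hy hz
    exact ⟨⟨g, hg⟩, Subtype.ext e⟩
  gen := Subgroup.closure_closure_coe_preimage

omit hR hperf in
/-- Members with an odd-order product inside a normal subgroup have the same neighbours. -/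
theorem perp_subset_of_odd {N : Subgroup G} [hN : N.Normal] (hodd : (Nat.card N).Coprime 2) {a w : G} (ha : a ∈ D)
    (hw : w ∈ D) (haw : a * w ∈ N) (hne : a ≠ w) : perp D a ⊆ perp D w := by
  have eq_of : ∀ {b c : G}, b ∈ D → c ∈ D → b * c ∈ N → Commute b c → b = c := by
    intro b c hb hc hbc hcomm
    have h1 : orderOf (b * c) ∣ Nat.card N := Subgroup.orderOf_dvd_natCard N hbc
    have h2 : orderOf (b * c) ∣ 2 := orderOf_dvd_of_pow_eq_one ((h.commute_iff_sq hb hc).1 hcomm)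
    rw [eq_inv_of_mul_eq_one_left (orderOf_eq_one_iff.1 (Nat.eq_one_of_dvd_coprimes hodd h1 h2)), h.inv_eq hc]
  intro y hy
  have hnaw : ¬ Commute a w := fun hh => hne (eq_of ha hw haw hh)
  refine ⟨hy.1, fun e => hnaw (e ▸ hy.2.2), ?_⟩
  by_contra hn
  obtain ⟨g, hg1, hg2⟩ := h.conj2_of_commute hw ha hy.1 hy.2.2 (fun hh => hnaw hh.symm) hn
  have h1 : y * w ∈ N := by
    have := hN.conj_mem _ haw g
    rwa [show g * (a * w) * g⁻¹ = (g * a * g⁻¹) * (g * w * g⁻¹) by group, hg2, hg1] at this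
  have h2 : a * y ∈ N := by
    have := mul_mem haw (inv_mem h1)
    rwa [show a * w * (y * w)⁻¹ = a * (w * w⁻¹) * y⁻¹ by group, h.inv_eq hy.1, mul_inv_cancel, mul_one] at this
  exact hy.2.1 (eq_of ha hy.1 h2 hy.2.2).symm

/-- A non-trivial class of partners. -/
theorem exists_seed {x : G} (hx : x ∈ D)
    (hO : ¬ Cfsg.oddCore ↥(Subgroup.closure (perp D x)) ≤ Subgroup.center ↥(Subgroup.closure (perp D x))) :
    ∃ d ∈ perp D x, ∃ w ∈ E D x d, w ≠ d := by
  have hK := hyp_local h hR hperf hx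
  set N := Cfsg.oddCore ↥(Subgroup.closure (perp D x)) with hNdef
  haveI : N.Normal := (inferInstance : (Cfsg.pPrimeCore 2 ↥(Subgroup.closure (perp D x))).Normal)
  have hodd : (Nat.card N).Coprime 2 := CfsgLib.Coprime.pPrimeCore_coprime Nat.prime_two
  by_contra hcon
  push Not at hcon
  refine hO (hK.le_center_of_commute fun d hd n hn => ?_)
  by_contra hdn
  set w := n * d * n⁻¹ with hw
  have hwD := hK.conj n d hd
  have hne : w ≠ d := fun e => hdn (by
    show d * n = n * d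
    rw [hw, mul_inv_eq_iff_eq_mul] at e
    exact e.symm)
  have hdw : d * w ∈ N := by
    have := hK.mul_conj_mem (N := N) hd hn
    rwa [hK.inv_eq hd] at this
  have hwd : w * d ∈ N := by
    have := inv_mem hdw
    rwa [mul_inv_rev, hK.inv_eq hd, hK.inv_eq hwD] at this
  have e1 := Set.Subset.antisymm (perp_subset_of_odd hK hodd hd hwD hdw hne.symm)
    (perp_subset_of_odd hK hodd hwD hd hwd hne)
  refine hne (Subtype.ext (hcon d.1 hd w.1 ⟨hwD, ?_⟩))
  ext y
  constructor
  · rintro ⟨hy, hyw⟩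
    have : (⟨y, Subgroup.subset_closure hy⟩ : ↥(Subgroup.closure (perp D x))) ∈
        perp (Subtype.val ⁻¹' perp D x : Set ↥(Subgroup.closure (perp D x))) w :=
      ⟨hy, fun e => hyw.2.1 (congrArg Subtype.val e), Subtype.ext hyw.2.2⟩
    rw [← e1] at this
    exact ⟨hy, hy.1, fun e => this.2.1 (Subtype.ext e), congrArg Subtype.val this.2.2⟩
  · rintro ⟨hy, hyd⟩
    have : (⟨y, Subgroup.subset_closure hy⟩ : ↥(Subgroup.closure (perp D x))) ∈
        perp (Subtype.val ⁻¹' perp D x : Set ↥(Subgroup.closure (perp D x))) d :=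
      ⟨hy, fun e => hyd.2.1 (congrArg Subtype.val e), Subtype.ext hyd.2.2⟩
    rw [e1] at this
    exact ⟨hy, hy.1, fun e => this.2.1 (Subtype.ext e), congrArg Subtype.val this.2.2⟩

omit hR hperf in
theorem ncard_conj_orbit {P : Subgroup G} (hP : IsPGroup 3 P) (a : G) :
    ∃ i : ℕ, {b | ∃ t ∈ P, t * a * t⁻¹ = b}.ncard = 3 ^ i := by
  haveI : Fact (Nat.Prime 3) := ⟨Nat.prime_three⟩
  letI : MulAction ↥P G := MulAction.compHom G ((MulAut.conj : G →* MulAut G).comp P.subtype)
  obtain ⟨i, hi⟩ := hP.card_orbit a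
  refine ⟨i, ?_⟩
  rw [← hi, Nat.card_coe_set_eq]
  congr 1
  ext b
  constructor
  · rintro ⟨t, ht, rfl⟩
    exact ⟨⟨t, ht⟩, rfl⟩
  · rintro ⟨t, rfl⟩
    exact ⟨t.1, t.2, rfl⟩

/-- The three-part of the group generated by the members commuting with `a` joins any two of them. -/
theorem exists_three_group (hclique : ∀ a ∈ D, ∀ b ∈ perp D a, ∀ c ∈ perp D a, b ≠ c → ¬ Commute b c)
    {a : G} (ha : a ∈ D) : ∃ T : Subgroup G, IsPGroup 3 T ∧ (∀ t ∈ T, Commute t a) ∧
      ∀ b ∈ perp D a, ∀ c ∈ perp D a, b ≠ c → b * c ∈ T := by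
  refine ⟨(Cfsg.pCore 3 ↥(Subgroup.closure (perp D a))).map (Subgroup.closure (perp D a)).subtype,
    (CfsgLib.Coprime.pCore_isPGroup 3).map _, ?_, fun b hb c hc hbc => ?_⟩
  · rintro _ ⟨t, -, rfl⟩
    exact commute_of_mem_closure_perp t.2
  · have hK := hyp_local h hR hperf ha
    have hempty : ∀ y : ↥(Subgroup.closure (perp D a)), (y : G) ∈ perp D a →
        perp (Subtype.val ⁻¹' perp D a : Set ↥(Subgroup.closure (perp D a))) y = ∅ := fun y hy =>
      Set.eq_empty_iff_forall_notMem.2 fun z hz =>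
        hclique a ha _ hy _ hz.1 (fun e => hz.2.1 (Subtype.ext e).symm) (congrArg Subtype.val hz.2.2)
    have h1 := (hK.perp_iff_three_core (d := ⟨b, Subgroup.subset_closure hb⟩)
      (w := ⟨c, Subgroup.subset_closure hc⟩) hb hc).1 ((hempty _ hb).trans (hempty _ hc).symm)
    rw [hK.inv_eq hb] at h1
    exact ⟨_, h1, rfl⟩

omit h hR hperf in
theorem not_sq_pow_mul : ∀ (i r m : ℕ), m % 3 = 2 → r * r ≠ 3 ^ i * m := by
  intro i
  induction i using Nat.twoStepInduction with
  | zero =>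
    intro r m hm e
    rw [pow_zero, one_mul] at e
    have h3 := Nat.mul_mod r r 3
    rw [e] at h3
    rcases (by omega : r % 3 = 0 ∨ r % 3 = 1 ∨ r % 3 = 2) with h4 | h4 | h4 <;> rw [h4] at h3 <;> omega
  | one =>
    intro r m hm e
    have h3 : 3 ∣ r * r := e ▸ Dvd.intro m (by rw [pow_one])
    obtain ⟨c, rfl⟩ := (Nat.Prime.dvd_mul Nat.prime_three).1 h3 |>.elim id id
    have : 3 ∣ m := ⟨c * c, by rw [pow_one] at e; linarith⟩
    omega
  | more i ih _ =>
    intro r m hm e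
    have h3 : 3 ∣ r * r := e ▸ Dvd.intro (3 ^ (i + 1) * m) (by ring)
    obtain ⟨c, rfl⟩ := (Nat.Prime.dvd_mul Nat.prime_three).1 h3 |>.elim id id
    exact ih c m hm (by rw [pow_add] at e; linarith)

omit h hR hperf in
theorem small_params {i j r : ℕ} (hij : i < j) (he : r * r + 4 * 3 ^ i = 3 ^ i * 3 ^ i + 4 * 3 ^ j) :
    i = 0 ∧ j = 1 := by
  obtain ⟨t, rfl⟩ : ∃ t, j = i + (t + 1) := ⟨j - i - 1, by omega⟩
  rcases Nat.eq_zero_or_pos i with rfl | hi
  · refine ⟨rfl, ?_⟩
    rcases Nat.eq_zero_or_pos t with rfl | ht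
    · rfl
    exfalso
    obtain ⟨t', rfl⟩ : ∃ t', t = t' + 1 := ⟨t - 1, by omega⟩
    simp only [pow_zero, zero_add, pow_succ] at he
    have h3 : 3 ∣ r * r := by omega
    obtain ⟨c, rfl⟩ := (Nat.Prime.dvd_mul Nat.prime_three).1 h3 |>.elim id id
    rw [show 3 * c * (3 * c) = 9 * (c * c) by ring] at he
    omega
  · exfalso
    obtain ⟨i', rfl⟩ : ∃ i', i = i' + 1 := ⟨i - 1, by omega⟩
    have hle : 4 ≤ 3 ^ (i' + 1) + 4 * 3 ^ (t + 1) := by
      have := Nat.one_le_pow (t + 1) 3 (by norm_num); omega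
    refine not_sq_pow_mul (i' + 1) r (3 ^ (i' + 1) + 4 * 3 ^ (t + 1) - 4) ?_ ?_
    · rw [pow_succ, pow_succ] at hle ⊢
      omega
    · have e2 : 3 ^ (i' + 1) * (3 ^ (i' + 1) + 4 * 3 ^ (t + 1)) = r * r + 3 ^ (i' + 1) * 4 := by
        rw [mul_add, mul_comm (3 ^ (i' + 1)) 4, he, pow_add 3 (i' + 1) (t + 1)]
        ring
      rw [Nat.mul_sub, e2, Nat.add_sub_cancel]

theorem ncard_common_conj {c d c' d' : G} (g : G) (hc : g * c * g⁻¹ = c') (hd : g * d * g⁻¹ = d') :
    (perp D c ∩ perp D d).ncard = (perp D c' ∩ perp D d').ncard := by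
  rw [← hc, ← hd, h.perp_conj, h.perp_conj, ← Set.image_inter (fun x y e => by simpa using e),
    Set.ncard_image_of_injective _ fun x y e => by simpa using e]

/-- The local structure. -/
theorem local_structure {x : G} (hx : x ∈ D)
    (hO : ¬ Cfsg.oddCore ↥(Subgroup.closure (perp D x)) ≤ Subgroup.center ↥(Subgroup.closure (perp D x))) :
    (∀ a ∈ D, (perp D a).ncard = 3) ∧ (∀ a ∈ D, ∀ b ∈ perp D a, ∀ c ∈ perp D a, b ≠ c → ¬ Commute b c) ∧
    ∀ c ∈ D, ∀ d ∈ D, ¬ Commute c d → (perp D c ∩ perp D d).ncard = 1 := by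
  classical
  obtain ⟨d₀, hd₀, w₀, hw₀, hne⟩ := exists_seed h hR hperf hx hO
  have hclique : ∀ a ∈ D, ∀ b ∈ perp D a, ∀ c ∈ perp D a, b ≠ c → ¬ Commute b c := fun a ha b hb c hc hbc =>
    not_commute_of_mem_E hb (by rw [E_eq_perp h hR hperf hx hd₀ hw₀ hne ha hb]; exact hc) hbc.symm
  have hn0 := not_commute_of_mem_E hd₀ hw₀ hne
  -- the valency
  obtain ⟨T, hT, hTc, hTj⟩ := exists_three_group h hR hperf hclique hx
  obtain ⟨j, hj⟩ : ∃ j, (perp D x).ncard = 3 ^ j := by
    obtain ⟨j, hj⟩ := ncard_conj_orbit h hT d₀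
    refine ⟨j, hj ▸ congrArg Set.ncard (Set.ext fun b => ?_)⟩
    constructor
    · intro hb
      by_cases e : d₀ = b
      · exact ⟨1, one_mem _, by simpa using e⟩
      · exact ⟨d₀ * b, hTj _ hd₀ _ hb e, h.conj_swap_mul hd₀.1 hb.1 (hclique x hx _ hd₀ _ hb e)⟩
    · rintro ⟨t, ht, rfl⟩
      rw [← conj_eq_of_commute (hTc t ht), h.perp_conj]
      exact ⟨d₀, hd₀, rfl⟩
  -- the common neighbours
  set μ := (perp D d₀ ∩ perp D w₀).ncard with hμ
  have hxw : x ∈ perp D d₀ ∩ perp D w₀ := ⟨perp_comm hx hd₀, perp_comm hx hw₀.1⟩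
  obtain ⟨i, hi⟩ : ∃ i, μ = 3 ^ i := by
    obtain ⟨T', hT', hTc', hTj'⟩ := exists_three_group h hR hperf hclique hd₀.1
    set Q := T' ⊓ Subgroup.centralizer ({w₀} : Set G) with hQ
    obtain ⟨i, hi⟩ := ncard_conj_orbit h (hT'.to_le (inf_le_left : Q ≤ T')) x
    refine ⟨i, hμ ▸ hi ▸ congrArg Set.ncard (Set.ext fun b => ?_)⟩
    constructor
    · rintro ⟨hb1, hb2⟩
      by_cases e : x = b
      · exact ⟨1, one_mem _, by simpa using e⟩
      · refine ⟨x * b, ⟨hTj' _ hxw.1 _ hb1 e, Subgroup.mem_centralizer_singleton_iff.2 ?_⟩,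
          h.conj_swap_mul hx hb1.1 (hclique _ hd₀.1 _ hxw.1 _ hb1 e)⟩
        exact (hxw.2.2.2.mul_right hb2.2.2).symm.eq
    · rintro ⟨t, ht, rfl⟩
      refine ⟨?_, ?_⟩
      · rw [← conj_eq_of_commute (hTc' t ht.1), h.perp_conj]
        exact ⟨x, hxw.1, rfl⟩
      · rw [← conj_eq_of_commute (Subgroup.mem_centralizer_singleton_iff.1 ht.2 : Commute t w₀), h.perp_conj]
        exact ⟨x, hxw.2, rfl⟩
  have hconst : ∀ c ∈ D, ∀ d ∈ D, ¬ Commute c d → (perp D c ∩ perp D d).ncard = μ := by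
    intro c hc d hd hcd
    obtain ⟨g, hg⟩ := h.transitive d₀ hd₀.1 c hc
    have hn : ¬ Commute c (g * w₀ * g⁻¹) := fun hh => hn0 ((Commute.conj_iff g).1 (by rw [hg]; exact hh))
    obtain ⟨k, hk, hkd⟩ := exists_conj_not_commute h hR hperf hc (h.conj g w₀ hw₀.1.1) hd hn hcd
    rw [hμ, ncard_common_conj h hR hperf g hg rfl, ncard_common_conj h hR hperf k (conj_eq_of_commute hk) hkd]
  have hk_const : ∀ a ∈ D, (perp D a).ncard = 3 ^ j := fun a ha => by rw [ncard_perp h hR ha hx, hj]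
  have hμk : μ < 3 ^ j := by
    rw [← hk_const d₀ hd₀.1]
    obtain ⟨u, hu, huw⟩ := exists_outside h hR hd₀.1 hw₀.1.1 hne.symm
    exact Set.ncard_lt_ncard ⟨Set.inter_subset_left, fun hh => huw (hh hu).2⟩ (Set.toFinite _)
  have hij : i < j := (Nat.pow_lt_pow_iff_right (by norm_num : 1 < 3)).1 (hi ▸ hμk)
  haveI : Fintype G := Fintype.ofFinite G
  haveI : Fintype ↥D := Fintype.ofFinite _
  have hfil : ∀ (P : G → Prop) [DecidablePred P], (∀ z, P z → z ∈ D) →
      (Finset.univ.filter fun z : ↥D => P z).card = {z | P z}.ncard := by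
    intro P _ hP
    rw [← Set.ncard_coe_finset, ← Set.ncard_image_of_injective _ Subtype.val_injective]
    congr 1
    ext z
    constructor
    · rintro ⟨z', hz', rfl⟩
      simpa using hz'
    · intro hz
      exact ⟨⟨z, hP z hz⟩, by simpa using hz, rfl⟩
  obtain ⟨r, hr⟩ := isSquare_of_srg (V := ↥D) (fun a b => (b : G) ∈ perp D a)
    (fun a b hab => perp_comm a.2 hab) (fun a ha => ha.2.1 rfl) (3 ^ j) μ
    (by
      calc 3 = 3 ^ 1 := rfl
        _ ≤ 3 ^ j := Nat.pow_le_pow_right (by norm_num) (by omega))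
    (by rw [hi]; exact Nat.one_le_pow _ _ (by norm_num)) hμk.le
    (fun a => by rw [hfil (fun z => z ∈ perp D a) (fun z hz => hz.1)]; exact hk_const a a.2)
    (fun a b hab => by
      rw [hfil (fun z => z ∈ perp D a ∧ (b : G) ∈ perp D z) (fun z hz => hz.1.1)]
      rw [Set.ncard_eq_zero]
      refine Set.eq_empty_iff_forall_notMem.2 fun z hz => ?_
      exact hclique a a.2 _ hab _ hz.1 hz.2.2.1 hz.2.2.2.symm)
    (fun a b hab hnab => by
      rw [hfil (fun z => z ∈ perp D a ∧ (b : G) ∈ perp D z) (fun z hz => hz.1.1)]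
      rw [← hconst a a.2 b b.2 fun hc => hnab ⟨b.2, fun e => hab (Subtype.ext e).symm, hc⟩]
      congr 1
      ext z
      exact ⟨fun hz => ⟨hz.1, perp_comm hz.1.1 hz.2⟩, fun hz => ⟨hz.1, perp_comm b.2 hz.2⟩⟩)
    ⟨⟨x, hx⟩⟩
  obtain ⟨rfl, rfl⟩ := small_params hij (r := r) (by rw [← hi]; exact hr)
  exact ⟨fun a ha => by rw [hk_const a ha, pow_one], hclique, fun c hc d hd hcd => by
    rw [hconst c hc d hd hcd, hi, pow_zero]⟩

/-- The three-core of a centralizer. -/
theorem card_pCore_centralizer (hcard : ∀ a ∈ D, (perp D a).ncard = 3)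
    (hclique : ∀ a ∈ D, ∀ b ∈ perp D a, ∀ c ∈ perp D a, b ≠ c → ¬ Commute b c)
    (hone : ∀ c ∈ D, ∀ d ∈ D, ¬ Commute c d → (perp D c ∩ perp D d).ncard = 1)
    (hZ : Subgroup.center G = ⊥) {x : G} (hx : x ∈ D) :
    Nat.card (Cfsg.pCore 3 ↥(Subgroup.centralizer ({x} : Set G))) = 3 := by
  haveI : Fact (Nat.Prime 3) := ⟨Nat.prime_three⟩
  set C := Subgroup.centralizer ({x} : Set G) with hC
  obtain ⟨b, c₁, c₂, hbc₁, hbc₂, hc12, heq⟩ := Set.ncard_eq_three.1 (hcard x hx)
  have hb : b ∈ perp D x := heq ▸ (by simp)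
  have hc : c₁ ∈ perp D x := heq ▸ (by simp)
  have hn : ¬ Commute b c₁ := hclique x hx b hb c₁ hc hbc₁
  have hcomm : ∀ g : G, g ∈ C → Commute g x := fun g hg => Subgroup.mem_centralizer_singleton_iff.1 hg
  have hmove : ∀ g : G, Commute g x → ∀ y ∈ perp D x, g * y * g⁻¹ ∈ perp D x := fun g hg y hy => by
    rw [← conj_eq_of_commute hg, h.perp_conj]
    exact ⟨y, hy, rfl⟩
  have hsymm : c₂ = b * c₁ * b := by
    have h1 : b * c₁ * b ∈ perp D x :=
      ⟨h.conj_mem' hb.1 hc.1, fun e => hn (by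
        have e1 : b * (b * c₁ * b) * b = c₁ := h.conj_conj hb.1
        rw [e, h.conj_fix hb.1 hb.2.2.symm] at e1
        exact e1 ▸ hb.2.2.symm), commute_third hb.2.2 hc.2.2⟩
    rw [heq] at h1
    rcases h1 with e | e | e
    · exact absurd (e ▸ h.third_not_commute hb.1 hc.1 hn) (fun hh => hh (Commute.refl b))
    · exact absurd e (h.third_ne hb.1 hc.1 hn)
    · exact e.symm
  -- at most three
  have hle : Nat.card (Cfsg.pCore 3 ↥C) ≤ 3 := by
    have hfix : ∀ g : G, (∃ m : ℕ, g ^ 3 ^ m = 1) → ∀ a ∈ D, g * a * g⁻¹ = a → ∀ y ∈ perp D a,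
        g * y * g⁻¹ = y → ∀ z ∈ perp D a, g * z * g⁻¹ = z := by
      intro g ⟨m, hm⟩ a ha hga y hy hgy z hz
      by_cases hzy : z = y
      · rw [hzy, hgy]
      have hga' : Commute g a := mul_inv_eq_iff_eq_mul.1 hga
      by_contra hgz
      set z' := g * z * g⁻¹ with hz'
      have hz'p : z' ∈ perp D a := by
        rw [← hga, h.perp_conj]; exact ⟨z, hz, rfl⟩
      have hz'y : z' ≠ y := fun e => hzy (by rw [← hgy] at e; simpa [hz'] using e)
      have hset : perp D a = {y, z, z'} := by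
        refine (Set.eq_of_subset_of_ncard_le ?_ ?_ (Set.toFinite _)).symm
        · rintro t (rfl | rfl | rfl) <;> assumption
        · rw [hcard a ha, Set.ncard_eq_three.2 ⟨y, z, z', Ne.symm hzy, hz'y.symm, Ne.symm hgz, rfl⟩]
      have hz''p : g * z' * g⁻¹ ∈ perp D a := by
        rw [← hga, h.perp_conj]; exact ⟨z', hz'p, rfl⟩
      have hback : g * z' * g⁻¹ = z := by
        rw [hset] at hz''p
        rcases hz''p with e | e | e
        · exact absurd (show z' = y by rw [← hgy] at e; simpa using e) hz'y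
        · exact e
        · exact absurd (show z' = z by simpa [hz'] using e) hgz
      have hsq : g ^ 2 * z * (g ^ 2)⁻¹ = z := by
        rw [pow_two, show g * g * z * (g * g)⁻¹ = g * (g * z * g⁻¹) * g⁻¹ by group]
        exact hback
      have hgen : Commute g z := by
        have h1 : Commute (g ^ 2) z := mul_inv_eq_iff_eq_mul.1 hsq
        have h2 : Commute (g ^ 3 ^ m) z := by rw [hm]; exact Commute.one_left z
        obtain ⟨q, hq⟩ := Nat.odd_iff.2 (by rw [Nat.pow_mod]; norm_num : 3 ^ m % 2 = 1)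
        rw [hq, pow_succ, pow_mul] at h2
        have h3 : Commute ((g ^ 2) ^ q) z := h1.pow_left q
        have := h3.inv_left.mul_left h2
        rwa [inv_mul_cancel_left] at this
      exact hgz (mul_inv_eq_iff_eq_mul.2 hgen.eq)
    let f : Cfsg.pCore 3 ↥C → perp D x := fun k => ⟨((k : ↥C) : G) * b * ((k : ↥C) : G)⁻¹,
      hmove _ (hcomm _ (k : ↥C).2) b hb⟩
    have hinj : Function.Injective f := by
      intro k k' e
      have e' : ((k : ↥C) : G) * b * ((k : ↥C) : G)⁻¹ = ((k' : ↥C) : G) * b * ((k' : ↥C) : G)⁻¹ :=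
        congrArg Subtype.val e
      set g := ((k'⁻¹ * k : Cfsg.pCore 3 ↥C) : ↥C).1 with hg
      have hgb : g * b * g⁻¹ = b := by
        rw [hg, Subgroup.coe_mul, Subgroup.coe_inv, Subgroup.coe_mul, Subgroup.coe_inv,
          show ((k' : ↥C) : G)⁻¹ * (k : ↥C) * b * (((k' : ↥C) : G)⁻¹ * (k : ↥C))⁻¹ =
            ((k' : ↥C) : G)⁻¹ * (((k : ↥C) : G) * b * ((k : ↥C) : G)⁻¹) * (k' : ↥C) by group, e']
        group
      have hgm : ∃ m : ℕ, g ^ 3 ^ m = 1 := by
        obtain ⟨m, hm⟩ := CfsgLib.Coprime.pCore_isPGroup (G := ↥C) 3 (k'⁻¹ * k)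
        exact ⟨m, by simpa [hg] using congrArg (fun t : Cfsg.pCore 3 ↥C => ((t : ↥C) : G)) hm⟩
      have hgx : g * x * g⁻¹ = x := conj_eq_of_commute (hcomm _ ((k'⁻¹ * k : Cfsg.pCore 3 ↥C) : ↥C).2)
      have hP : ∀ y ∈ perp D x, g * y * g⁻¹ = y := hfix g hgm x hx hgx b hb hgb
      have hall : ∀ z ∈ D, g * z * g⁻¹ = z := by
        intro z hz
        by_cases hzx : z = x
        · rw [hzx, hgx]
        by_cases hcx : Commute x z
        · exact hP z ⟨hz, hzx, hcx⟩
        obtain ⟨a, ha⟩ := Set.ncard_eq_one.1 (hone x hx z hz hcx)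
        have ha' : a ∈ perp D x ∩ perp D z := ha ▸ rfl
        exact hfix g hgm a ha'.1.1 (hP a ha'.1) x (perp_comm hx ha'.1) hgx z (perp_comm hz ha'.2)
      have hgc : g ∈ Subgroup.center G := by
        rw [Subgroup.mem_center_iff]
        intro t
        have ht : t ∈ Subgroup.closure D := h.gen ▸ Subgroup.mem_top t
        have hle : Subgroup.closure D ≤ Subgroup.centralizer {g} := by
          rw [Subgroup.closure_le]
          intro z hz
          rw [SetLike.mem_coe, Subgroup.mem_centralizer_singleton_iff]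
          exact (mul_inv_eq_iff_eq_mul.1 (hall z hz)).symm
        exact Subgroup.mem_centralizer_singleton_iff.1 (hle ht)
      rw [hZ, Subgroup.mem_bot] at hgc
      exact (inv_mul_eq_one.1 (Subtype.ext (Subtype.ext hgc))).symm
    have := Nat.card_le_card_of_injective f hinj
    rwa [Nat.card_coe_set_eq, hcard x hx] at this
  -- at least three
  have hbcC : b * c₁ ∈ C :=
    Subgroup.mem_centralizer_singleton_iff.2 ((hb.2.2.symm.mul_left hc.2.2.symm).eq)
  set r : ↥C := ⟨b * c₁, hbcC⟩ with hr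
  have hr3 : r ^ 3 = 1 := Subtype.ext (by simpa [hr] using h.cube hb.1 hc.1 hn)
  have hrne : r ≠ 1 := fun e => hbc₁ (by
    have e' : b * c₁ = 1 := congrArg Subtype.val e
    rw [eq_inv_of_mul_eq_one_left e', h.inv_eq hc.1])
  have hord : orderOf r = 3 := orderOf_eq_prime hr3 hrne
  haveI hnorm : (Subgroup.zpowers r).Normal := by
    have hz : ∀ g : ↥C, g * r * g⁻¹ ∈ Subgroup.zpowers r := by
      intro g
      have e : ((g * r * g⁻¹ : ↥C) : G) = ((g : G) * b * (g : G)⁻¹) * ((g : G) * c₁ * (g : G)⁻¹) := by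
        simp [hr, mul_assoc]
      have h1 := hmove g (hcomm _ g.2) b hb
      have h2 := hmove g (hcomm _ g.2) c₁ hc
      rw [heq] at h1 h2
      have hne' : (g : G) * b * (g : G)⁻¹ ≠ (g : G) * c₁ * (g : G)⁻¹ := fun e1 => hbc₁ (by simpa using e1)
      have bb := h.mul_self hb.1
      have cc := h.mul_self hc.1
      have br : b * c₁ * b = c₁ * b * c₁ := h.braid hb.1 hc.1 hn
      have i1 : c₁ * b = ((r⁻¹ : ↥C) : G) := by simp [hr, h.inv_eq hb.1, h.inv_eq hc.1]
      have i2 : b * (b * c₁ * b) = c₁ * b := by simp [← mul_assoc, bb]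
      have i3 : b * c₁ * b * b = b * c₁ := by rw [mul_assoc, bb, mul_one]
      have i4 : c₁ * (b * c₁ * b) = b * c₁ := by rw [br]; simp [← mul_assoc, cc]
      have i5 : b * c₁ * b * c₁ = c₁ * b := by rw [br, mul_assoc, cc, mul_one]
      have hr1 : r ∈ Subgroup.zpowers r := Subgroup.mem_zpowers r
      have hr2 : r⁻¹ ∈ Subgroup.zpowers r := inv_mem hr1
      have hval : ∀ t : G, (t = b * c₁ ∨ t = c₁ * b) → t = ((g * r * g⁻¹ : ↥C) : G) →
          g * r * g⁻¹ ∈ Subgroup.zpowers r := by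
        rintro t (rfl | rfl) ht
        · rwa [show g * r * g⁻¹ = r from Subtype.ext ht.symm]
        · rw [i1] at ht
          rwa [show g * r * g⁻¹ = r⁻¹ from Subtype.ext ht.symm]
      refine hval _ ?_ e.symm
      rw [hsymm] at h1 h2
      rcases h1 with e1 | e1 | e1 <;> rcases h2 with e2 | e2 | e2 <;>
        (first | exact absurd (e1.trans e2.symm) hne' | skip) <;> rw [e1, e2]
      · exact Or.inl rfl
      · exact Or.inr i2
      · exact Or.inr rfl
      · exact Or.inl i4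
      · exact Or.inl i3
      · exact Or.inr i5
    refine ⟨fun t ht g => ?_⟩
    obtain ⟨m, rfl⟩ := Subgroup.mem_zpowers_iff.1 ht
    rw [← conj_zpow]
    exact Subgroup.zpow_mem _ (hz g) m
  have hle' : Subgroup.zpowers r ≤ Cfsg.pCore 3 ↥C :=
    CfsgLib.Coprime.le_pCore (IsPGroup.of_card (n := 1) (by rw [Nat.card_zpowers, hord, pow_one]))
  have := Subgroup.card_le_of_le hle'
  rw [Nat.card_zpowers, hord] at this
  omega

omit hR in
/-- Fischer's theorem. -/
theorem sym_five (hsol : ∀ N : Subgroup G, N.Normal → Group.IsSolvable ↥N → N = ⊥) {x : G} (hx : x ∈ D)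
    (hO : ¬ Cfsg.oddCore ↥(Subgroup.closure (perp D x)) ≤ Subgroup.center ↥(Subgroup.closure (perp D x))) :
    Nonempty (G ≃* Equiv.Perm (Fin 5)) := by
  have hR := centralRadical_of_sol hsol
  have hZ : Subgroup.center G = ⊥ :=
    hsol _ inferInstance (Group.isSolvable_of_comm fun a b => Subtype.ext (Subgroup.mem_center_iff.1 b.2 a.1))
  obtain ⟨hcard, hclique, hone⟩ := local_structure h hR hperf hx hO
  have hloc : ∀ a ∈ D, Nonempty (↥(Subgroup.closure {y : G | y ∈ D ∧ y ≠ a ∧ Commute a y}) ≃* Equiv.Perm (Fin 3)) ∧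
      Nat.card (Cfsg.pCore 3 ↥(Subgroup.centralizer ({a} : Set G))) = 3 := by
    intro a ha
    refine ⟨?_, card_pCore_centralizer h hR hperf hcard hclique hone hZ ha⟩
    obtain ⟨b, c, e, hbc, hbe, hce, heq⟩ := Set.ncard_eq_three.1 (hcard a ha)
    have hb : b ∈ perp D a := heq ▸ (by simp)
    have hc : c ∈ perp D a := heq ▸ (by simp)
    have hn : ¬ Commute b c := hclique a ha b hb c hc hbc
    have hcl : Subgroup.closure (perp D a) = Subgroup.closure ({b, c} : Set G) := by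
      refine le_antisymm ((Subgroup.closure_le _).2 ?_) (Subgroup.closure_mono ?_)
      · intro t ht
        have h1 : b * c * b ∈ perp D a :=
          ⟨h.conj_mem' hb.1 hc.1, fun e1 => hn (by
            have e2 : b * (b * c * b) * b = c := h.conj_conj hb.1
            rw [e1, h.conj_fix hb.1 hb.2.2.symm] at e2
            exact e2 ▸ hb.2.2.symm), commute_third hb.2.2 hc.2.2⟩
        have hcl1 : b ∈ Subgroup.closure ({b, c} : Set G) := Subgroup.subset_closure (by simp)
        have hcl2 : c ∈ Subgroup.closure ({b, c} : Set G) := Subgroup.subset_closure (by simp)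
        rw [heq] at h1 ht
        rcases ht with rfl | rfl | rfl
        · exact hcl1
        · exact hcl2
        · rcases h1 with e1 | e1 | e1
          · exact absurd (e1 ▸ h.third_not_commute hb.1 hc.1 hn) (fun hh => hh (Commute.refl b))
          · exact absurd e1 (h.third_ne hb.1 hc.1 hn)
          · exact e1 ▸ mul_mem (mul_mem hcl1 hcl2) hcl1
      · rintro t (rfl | rfl)
        exacts [hb, hc]
    show Nonempty (↥(Subgroup.closure (perp D a)) ≃* Equiv.Perm (Fin 3))
    rw [hcl]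
    exact nonempty_equiv_perm_three (h.mul_self hb.1) (h.mul_self hc.1) (h.braid hb.1 hc.1 hn).symm hbc hn
  have htop : Nonempty (↥(Subgroup.closure D) ≃* G) := ⟨(MulEquiv.subgroupCongr h.gen).trans Subgroup.topEquiv⟩
  obtain ⟨e⟩ := htop
  rcases CfsgLib.Invol.LocalSymThree.classify h.set h.conj ⟨x, hx⟩ hloc with hf | hf
  · obtain ⟨f⟩ := hf
    exact ⟨e.symm.trans f⟩
  · obtain ⟨f⟩ := hf
    exfalso
    have hs3 : Group.IsSolvable (Equiv.Perm (Fin 3)) := by
      haveI : Group.IsSolvable ↥(alternatingGroup (Fin 3)) := Group.isSolvable_of_comm (by decide +kernel)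
      haveI : Group.IsSolvable ℤˣ := Group.isSolvable_of_comm (fun a b => mul_comm a b)
      exact Group.isSolvable_of_ker_le_range (alternatingGroup (Fin 3)).subtype (Equiv.Perm.sign)
        (fun g hg => ⟨⟨g, hg⟩, rfl⟩)
    haveI := hs3
    haveI : Group.IsSolvable (Equiv.Perm (Fin 3) × Equiv.Perm (Fin 3)) := inferInstance
    have hG : Group.IsSolvable G :=
      Group.isSolvable_of_isSolvable_injective (f := (e.symm.trans f).toMonoidHom) (e.symm.trans f).injective
    haveI := hG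
    have htop2 := hsol ⊤ inferInstance inferInstance
    exact h.ne_one hx (Subgroup.mem_bot.1 (htop2 ▸ Subgroup.mem_top x))

end CfsgLib.Invol.TriOddCore
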