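import Cfsg.Agent.Lib.Spor.Tri.Applications
import Cfsg.Agent.Lib.Spor.Tri.Cores
import Cfsg.Agent.Lib.Perm.Groups.CoxeterSym
import Cfsg.Agent.Lib.Coprime.Core

/-!
# Fischer: the local graph of a 3-transposition class whose `D_x`-group has non-central odd core

The members `w` of `perp D a` having the same neighbours as `d` inside `perp D a` form a class `E D a d`.  If some
such class is non-trivial, counting shows that `perp D a` is a single class, so the commuting graph has no triangles.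
-/

set_option autoImplicit false

namespace CfsgLib.Invol.TriOddCore

open CfsgLib.Spor.Tri

universe u

variable {G : Type u} [Group G] [Finite G] {D : Set G}

/-- Members of `perp D a` with the same neighbours as `d` there. -/
def E (D : Set G) (a d : G) : Set G := {w | w ∈ perp D a ∧ perp D a ∩ perp D w = perp D a ∩ perp D d}

omit [Finite G] in
theorem perp_comm {a b : G} (ha : a ∈ D) (hb : b ∈ perp D a) : a ∈ perp D b := ⟨ha, hb.2.1.symm, hb.2.2.symm⟩

omit [Finite G] in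
theorem self_mem_E {a d : G} (hd : d ∈ perp D a) : d ∈ E D a d := ⟨hd, rfl⟩

omit [Finite G] in
theorem not_commute_of_mem_E {a d w : G} (hd : d ∈ perp D a) (hw : w ∈ E D a d) (hne : w ≠ d) : ¬ Commute d w := by
  intro hc
  have h1 : w ∈ perp D a ∩ perp D d := ⟨hw.1, hw.1.1, hne, hc⟩
  rw [← hw.2] at h1
  exact h1.2.2.1 rfl

omit [Finite G] in
theorem ne_of_not_commute' {a b : G} (hn : ¬ Commute a b) : b ≠ a := fun e => hn (e ▸ Commute.refl a)

theorem E_conj (h : Hyp D) (g : G) {a d w : G} (hw : w ∈ E D a d) :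
    g * w * g⁻¹ ∈ E D (g * a * g⁻¹) (g * d * g⁻¹) := by
  refine ⟨by rw [h.perp_conj]; exact ⟨w, hw.1, rfl⟩, ?_⟩
  rw [h.perp_conj, h.perp_conj, h.perp_conj,
    ← Set.image_inter (fun x y e => by simpa using e), ← Set.image_inter (fun x y e => by simpa using e), hw.2]

theorem ncard_E_conj (h : Hyp D) (g : G) (a d : G) :
    (E D a d).ncard ≤ (E D (g * a * g⁻¹) (g * d * g⁻¹)).ncard :=
  Set.ncard_le_ncard_of_injOn (fun w => g * w * g⁻¹) (fun _ hw => E_conj h g hw)
    (fun x _ y _ e => by simpa using e) (Set.toFinite _)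

/-- In the subgroup `Sym(5)` of four members forming a path, the two disjoint ends are exchanged. -/
theorem exists_flip (h : Hyp D) {a d w z : G} (ha : a ∈ D) (hd : d ∈ D) (hw : w ∈ D) (hz : z ∈ D)
    (hda : Commute d a) (hdz : Commute d z) (hwa : Commute w a) (hdw : ¬ Commute d w) (hwz : ¬ Commute w z)
    (hza : ¬ Commute z a) : ∃ g : G, g * d * g⁻¹ = a ∧ g * a * g⁻¹ = d ∧ g * w * g⁻¹ = z := by
  obtain ⟨cs, hcs⟩ := CfsgLib.Perm.Groups.exists_coxeterSystem_sym 4
  let f : Fin 4 → G := ![d, w, z, a]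
  have sq : ∀ {p : G}, p ∈ D → (p * p) ^ 1 = 1 := fun hp => by rw [pow_one, h.mul_self hp]
  have c2 : ∀ {p q : G}, p ∈ D → q ∈ D → Commute p q → (p * q) ^ 2 = 1 := fun hp hq hc =>
    (h.commute_iff_sq hp hq).1 hc
  have c3 : ∀ {p q : G}, p ∈ D → q ∈ D → ¬ Commute p q → (p * q) ^ 3 = 1 := fun hp hq hc => h.cube hp hq hc
  have hf : (CoxeterMatrix.A 4).IsLiftable f := by
    intro i j
    fin_cases i <;> fin_cases j
    · exact sq hd
    · exact c3 hd hw hdw
    · exact c2 hd hz hdz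
    · exact c2 hd ha hda
    · exact c3 hw hd fun e => hdw e.symm
    · exact sq hw
    · exact c3 hw hz hwz
    · exact c2 hw ha hwa
    · exact c2 hz hd hdz.symm
    · exact c3 hz hw fun e => hwz e.symm
    · exact sq hz
    · exact c3 hz ha hza
    · exact c2 ha hd hda.symm
    · exact c2 ha hw hwa.symm
    · exact c3 ha hz fun e => hza e.symm
    · exact sq ha
  set φ : Equiv.Perm (Fin 5) →* G := cs.lift ⟨f, hf⟩ with hφ
  have hgen : ∀ i : Fin 4, φ (Equiv.swap i.castSucc i.succ) = f i := fun i => by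
    rw [← hcs i, hφ, cs.lift_apply_simple]
  set w₀ : Equiv.Perm (Fin 5) := Equiv.swap 0 4 * Equiv.swap 1 3 with hw₀
  have key : ∀ i j : Fin 4, w₀ * Equiv.swap i.castSucc i.succ * w₀⁻¹ = Equiv.swap j.castSucc j.succ →
      φ w₀ * f i * (φ w₀)⁻¹ = f j := fun i j e => by
    rw [← hgen i, ← hgen j, ← map_inv, ← map_mul, ← map_mul, e]
  refine ⟨φ w₀, key 0 3 ?_, key 3 0 ?_, key 1 2 ?_⟩ <;> rw [hw₀] <;> decide

variable (h : Hyp D)
include h

/-- A member commuting with `d` but neither with `a` nor with a partner of `d` over `a` is a partner of `a` over `d`. -/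
theorem partner {a d w z : G} (ha : a ∈ D) (hd : d ∈ perp D a) (hw : w ∈ E D a d) (hwd : w ≠ d)
    (hz : z ∈ perp D d) (hza : ¬ Commute z a) (hzw : ¬ Commute w z) : z ∈ E D d a := by
  obtain ⟨g, g1, g2, g3⟩ := exists_flip h ha hd.1 hw.1.1 hz.1 hd.2.2.symm hz.2.2 hw.1.2.2.symm
    (not_commute_of_mem_E hd hw hwd) hzw hza
  have := E_conj h g hw
  rwa [g1, g2, g3] at this

/-- The members commuting with `d` but not with a partner `w` are partners of `a`. -/
theorem outside_subset {a d w : G} (ha : a ∈ D) (hd : d ∈ perp D a) (hw : w ∈ E D a d) (hwd : w ≠ d)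
    {u : G} (hu : u ∈ perp D d) (huw : u ∉ perp D w) : u ∈ E D d a ∧ ¬ Commute u a ∧ ¬ Commute w u := by
  have hua : u ≠ a := fun e => huw (e ▸ perp_comm ha hw.1)
  have hn1 : ¬ Commute u a := fun hc => huw <| by
    have h1 : u ∈ perp D a ∩ perp D d := ⟨⟨hu.1, hua, hc.symm⟩, hu⟩
    rw [← hw.2] at h1
    exact h1.2
  have hn2 : ¬ Commute w u := fun hc => huw ⟨hu.1, fun e => not_commute_of_mem_E hd hw hwd (e ▸ hu.2.2), hc⟩
  exact ⟨partner h ha hd hw hwd hu hn1 hn2, hn1, hn2⟩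

variable (hR : CentralRadical G) (hperf : ⁅commutator G, commutator G⁆ = commutator G)
include hR hperf

theorem ncard_E_const {a d a' d' : G} (ha : a ∈ D) (hd : d ∈ perp D a) (ha' : a' ∈ D) (hd' : d' ∈ perp D a') :
    (E D a d).ncard = (E D a' d').ncard := by
  refine le_antisymm ?_ ?_
  · obtain ⟨g, g1, g2⟩ := conj2_commuting h hR hperf ha hd ha' hd'
    exact g1 ▸ g2 ▸ ncard_E_conj h g a d
  · obtain ⟨g, g1, g2⟩ := conj2_commuting h hR hperf ha' hd' ha hd
    exact g1 ▸ g2 ▸ ncard_E_conj h g a' d'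

omit hperf in
theorem ncard_perp {c d : G} (hc : c ∈ D) (hd : d ∈ D) : (perp D c).ncard = (perp D d).ncard := by
  obtain ⟨g, rfl⟩ := h.transitive c hc d hd
  rw [h.perp_conj]
  exact (Set.ncard_image_of_injective _ fun x y e => by simpa using e).symm

omit hperf in
theorem exists_outside {d w : G} (hd : d ∈ D) (hw : w ∈ D) (hne : d ≠ w) : ∃ u ∈ perp D d, u ∉ perp D w := by
  by_contra hcon
  push Not at hcon
  exact hne (h.eq_of_perp_eq hR hd hw
    (Set.eq_of_subset_of_ncard_le hcon (ncard_perp h hR hw hd).le (Set.toFinite _)))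

/-- Every non-commuting pair consists of partners. -/
theorem exists_over {a₀ d₀ w₀ : G} (ha₀ : a₀ ∈ D) (hd₀ : d₀ ∈ perp D a₀) (hw₀ : w₀ ∈ E D a₀ d₀) (hne : w₀ ≠ d₀)
    {d w : G} (hd : d ∈ D) (hw : w ∈ D) (hdw : ¬ Commute d w) : ∃ a, a ∈ D ∧ d ∈ perp D a ∧ w ∈ E D a d := by
  obtain ⟨g, hg⟩ := h.transitive d₀ hd₀.1 d hd
  have hn : ¬ Commute d (g * w₀ * g⁻¹) := fun hc =>
    not_commute_of_mem_E hd₀ hw₀ hne ((Commute.conj_iff g).1 (by rw [hg]; exact hc))
  obtain ⟨k, hk, hkw⟩ := exists_conj_not_commute h hR hperf hd (h.conj g w₀ hw₀.1.1) hw hn hdw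
  have hgd : g * d₀ * g⁻¹ ∈ perp D (g * a₀ * g⁻¹) := by rw [h.perp_conj]; exact ⟨d₀, hd₀, rfl⟩
  refine ⟨k * (g * a₀ * g⁻¹) * k⁻¹, h.conj k _ (h.conj g a₀ ha₀), ?_, ?_⟩
  · rw [h.perp_conj]
    exact ⟨d, hg ▸ hgd, conj_eq_of_commute hk⟩
  · have := E_conj h k (E_conj h g hw₀)
    rwa [hkw, hg, conj_eq_of_commute hk] at this

/-- All common neighbours over which `d`, `w` are partners lie in one class of partners, which also contains
two members not commuting with `w`. -/
theorem ncard_over {a₀ d₀ w₀ : G} (ha₀ : a₀ ∈ D) (hd₀ : d₀ ∈ perp D a₀) (hw₀ : w₀ ∈ E D a₀ d₀) (hne : w₀ ≠ d₀)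
    {d w : G} (hd : d ∈ D) (hw : w ∈ D) (hdw : ¬ Commute d w) :
    {a | a ∈ perp D d ∧ w ∈ E D a d}.ncard + 2 ≤ (E D a₀ d₀).ncard ∧
    (perp D d).ncard + {a | a ∈ perp D d ∧ w ∈ E D a d}.ncard ≤
      (perp D d ∩ perp D w).ncard + (E D a₀ d₀).ncard := by
  obtain ⟨a, ha, hda, hwa⟩ := exists_over h hR hperf ha₀ hd₀ hw₀ hne hd hw hdw
  have had : a ∈ perp D d := perp_comm ha hda
  have hwd : w ≠ d := ne_of_not_commute' hdw
  have he : (E D d a).ncard = (E D a₀ d₀).ncard := ncard_E_const h hR hperf hd had ha₀ hd₀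
  obtain ⟨u, hu, huw⟩ := exists_outside h hR hd hw hwd.symm
  obtain ⟨huE, hua, hwu⟩ := outside_subset h ha hda hwa hwd hu huw
  set X := {a | a ∈ perp D d ∧ w ∈ E D a d}
  have hXsub : X ⊆ E D d a ∩ perp D w := by
    rintro b ⟨hb, hwb⟩
    refine ⟨⟨hb, ?_⟩, perp_comm hb.1 hwb.1⟩
    have h1 := (outside_subset h hb.1 (perp_comm hd hb) hwb hwd hu huw).1
    exact h1.2.symm.trans huE.2
  -- the second outside member
  set u' := a * u * a with hu'
  have haw : Commute a w := hwa.1.2.2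
  have hu'D : u' ∈ D := h.conj_mem' ha hu.1
  have hn : ¬ Commute a u := fun hc => hua hc.symm
  have hu'd : u' ∈ perp D d :=
    ⟨hu'D, fun e => hn (by
      have e1 : a * u' * a = u := h.conj_conj ha
      rw [e, h.conj_fix ha had.2.2.symm] at e1
      exact e1 ▸ had.2.2.symm), commute_third had.2.2 hu.2.2⟩
  have hu'w : u' ∉ perp D w := fun hh => hwu <| by
    have h1 := commute_third haw.symm hh.2.2
    rwa [hu', h.conj_conj ha] at h1
  have hne' : u' ≠ u := h.third_ne ha hu.1 hn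
  set U := perp D d \ perp D w
  have hUsub : U ⊆ E D d a := fun z hz => (outside_subset h ha hda hwa hwd hz.1 hz.2).1
  have hU2 : 2 ≤ U.ncard := by
    rw [← Set.ncard_pair hne']
    refine Set.ncard_le_ncard ?_ (Set.toFinite _)
    rintro z (rfl | rfl)
    exacts [⟨hu'd, hu'w⟩, ⟨hu, huw⟩]
  have hsum : X.ncard + U.ncard ≤ (E D d a).ncard := by
    rw [← Set.ncard_union_eq (Set.disjoint_left.2 fun z hzX hzU => hzU.2 (hXsub hzX).2) (Set.toFinite _)
      (Set.toFinite _)]
    exact Set.ncard_le_ncard (Set.union_subset (fun z hz => (hXsub hz).1) hUsub) (Set.toFinite _)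
  have hsplit : (perp D d).ncard = (perp D d ∩ perp D w).ncard + U.ncard :=
    (Set.ncard_inter_add_ncard_sdiff_eq_ncard _ _ (Set.toFinite _)).symm
  exact ⟨by omega, by omega⟩

/-- `perp D a` is a single class of partners. -/
theorem E_eq_perp {a₀ d₀ w₀ : G} (ha₀ : a₀ ∈ D) (hd₀ : d₀ ∈ perp D a₀) (hw₀ : w₀ ∈ E D a₀ d₀) (hne : w₀ ≠ d₀)
    {a d : G} (ha : a ∈ D) (hd : d ∈ perp D a) : E D a d = perp D a := by
  classical
  haveI : Fintype G := Fintype.ofFinite G
  refine Set.eq_of_subset_of_ncard_le (fun w hw => hw.1) ?_ (Set.toFinite _)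
  rw [ncard_E_const h hR hperf ha hd ha₀ hd₀, ncard_perp h hR ha hd₀.1]
  -- count pairs at `d₀`
  set k := (perp D d₀).ncard with hk
  set e := (E D a₀ d₀).ncard with he
  have hek : e ≤ k := by
    rw [he, hk, ← ncard_perp h hR ha₀ hd₀.1]
    exact Set.ncard_le_ncard (fun w hw => hw.1) (Set.toFinite _)
  by_contra hlt
  push Not at hlt
  let P : Finset G := (perp D d₀).toFinset
  let W : Finset G := {w ∈ (Finset.univ : Finset G) | w ∈ D ∧ ¬ Commute d₀ w}
  have hPc : P.card = k := by rw [hk, Set.ncard_eq_toFinset_card']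
  have hX : ∀ w, {a | a ∈ perp D d₀ ∧ w ∈ E D a d₀}.ncard = (P.filter fun a => w ∈ E D a d₀).card := fun w => by
    rw [← Set.ncard_coe_finset]
    congr 1
    ext b
    simp [P]
  have hM : ∀ w, (perp D d₀ ∩ perp D w).ncard = (P.filter fun a => a ∈ perp D w).card := fun w => by
    rw [← Set.ncard_coe_finset]
    congr 1
    ext b
    simp [P]
  have hsumX : ∑ w ∈ W, (P.filter fun a => w ∈ E D a d₀).card = k * (e - 1) := by
    have hb := Finset.sum_card_bipartiteAbove_eq_sum_card_bipartiteBelow (s := W) (t := P) (fun w a => w ∈ E D a d₀)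
    simp only [Finset.bipartiteAbove, Finset.bipartiteBelow] at hb
    rw [hb]
    have : ∀ b ∈ P, (W.filter fun w => w ∈ E D b d₀).card = e - 1 := by
      intro b hb
      have hb' : b ∈ perp D d₀ := by simpa [P] using hb
      have hdb := perp_comm hd₀.1 hb'
      have hset : ((W.filter fun w => w ∈ E D b d₀ : Finset G) : Set G) = E D b d₀ \ {d₀} := by
        ext w
        simp only [W, Finset.coe_filter, Finset.mem_filter, Finset.mem_univ, true_and, Set.mem_setOf_eq,
          Set.mem_sdiff, Set.mem_singleton_iff]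
        constructor
        · rintro ⟨⟨-, hn⟩, hwE⟩
          exact ⟨hwE, fun e => hn (e ▸ Commute.refl w)⟩
        · rintro ⟨hwE, hwd⟩
          exact ⟨⟨hwE.1.1, not_commute_of_mem_E hdb hwE hwd⟩, hwE⟩
      rw [← Set.ncard_coe_finset, hset, Set.ncard_sdiff_singleton_of_mem (self_mem_E hdb),
        ncard_E_const h hR hperf hb'.1 hdb ha₀ hd₀]
    rw [Finset.sum_congr rfl this, Finset.sum_const, hPc, smul_eq_mul]
  have hsumM : ∑ w ∈ W, (P.filter fun a => a ∈ perp D w).card ≤ k * (k - 1) := by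
    have hb := Finset.sum_card_bipartiteAbove_eq_sum_card_bipartiteBelow (s := W) (t := P) (fun w a => a ∈ perp D w)
    simp only [Finset.bipartiteAbove, Finset.bipartiteBelow] at hb
    rw [hb]
    refine (Finset.sum_le_card_nsmul P _ (k - 1) fun b hb => ?_).trans (by rw [hPc, smul_eq_mul])
    have hb' : b ∈ perp D d₀ := by simpa [P] using hb
    have hdb := perp_comm hd₀.1 hb'
    rw [← Set.ncard_coe_finset, hk, ← ncard_perp h hR hb'.1 hd₀.1, ← Set.ncard_sdiff_singleton_of_mem hdb]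
    refine Set.ncard_le_ncard ?_ (Set.toFinite _)
    intro w hw
    simp only [W, Finset.coe_filter, Finset.mem_filter, Finset.mem_univ, true_and, Set.mem_setOf_eq] at hw
    exact ⟨perp_comm hw.1.1 hw.2, fun e => hw.1.2 (Set.mem_singleton_iff.1 e ▸ Commute.refl d₀)⟩
  have hper : ∀ w ∈ W, (P.filter fun a => w ∈ E D a d₀).card + 2 ≤ e ∧
      k - e + (P.filter fun a => w ∈ E D a d₀).card ≤ (P.filter fun a => a ∈ perp D w).card := by
    intro w hw
    simp only [W, Finset.mem_filter, Finset.mem_univ, true_and] at hw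
    obtain ⟨h1, h2⟩ := ncard_over h hR hperf ha₀ hd₀ hw₀ hne hd₀.1 hw.1 hw.2
    rw [hX, hM, ← hk, ← he] at h2
    rw [hX, ← he] at h1
    exact ⟨h1, by omega⟩
  have e1 : k * (e - 1) ≤ W.card * (e - 2) := by
    rw [← hsumX, ← smul_eq_mul (W.card)]
    exact Finset.sum_le_card_nsmul W _ _ fun w hw => by have := (hper w hw).1; omega
  have e2 : W.card * (k - e) + k * (e - 1) ≤ k * (k - 1) := by
    refine le_trans ?_ hsumM
    rw [← hsumX, ← smul_eq_mul (W.card), ← Finset.sum_const, ← Finset.sum_add_distrib]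
    exact Finset.sum_le_sum fun w hw => (hper w hw).2
  have hk0 : 0 < k := by omega
  have he2 : 2 ≤ e := by
    rw [he, ← Set.ncard_pair hne.symm]
    refine Set.ncard_le_ncard ?_ (Set.toFinite _)
    rintro z (rfl | rfl)
    exacts [self_mem_E hd₀, hw₀]
  obtain ⟨c, hc⟩ : ∃ c, e = c + 2 := ⟨e - 2, by omega⟩
  obtain ⟨j, hj⟩ : ∃ j, k = c + 2 + j + 1 := ⟨k - e - 1, by omega⟩
  rw [hc, hj, show c + 2 - 1 = c + 1 by omega, show c + 2 - 2 = c by omega] at e1
  rw [hc, hj, show c + 2 + j + 1 - (c + 2) = j + 1 by omega, show c + 2 - 1 = c + 1 by omega,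
    show c + 2 + j + 1 - 1 = c + 2 + j by omega] at e2
  have h3 : W.card ≤ c + 2 + j + 1 := by
    by_contra hcon
    push Not at hcon
    nlinarith
  nlinarith [Nat.mul_le_mul_right c h3]

end CfsgLib.Invol.TriOddCore
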